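import Groth.Agent.GenEtaleLib.Main
import Groth.Agent.AlgSpLib.OnePoint
import Groth.Agent.AffContLib.Semi
import Groth.Agent.S0419
import Groth.Agent.S0434
import Groth.Agent.S0414

/-!
# Components of a flat, geometrically reduced family near the generic point of the base
-/

set_option autoImplicit false
set_option backward.isDefEq.respectTransparency false
set_option backward.isDefEq.respectTransparency.types false
set_option linter.style.haveILetI false
universe u

open CategoryTheory CategoryTheory.Limits AlgebraicGeometry TopologicalSpace MorphismProperty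

noncomputable section

namespace CompSpreadLib

theorem geometricallyReduced_openImmersion {V X S : Scheme.{u}} (j : V ⟶ X) [IsOpenImmersion j] (p : X ⟶ S)
    [GeometricallyReduced p] : GeometricallyReduced (j ≫ p) := by
  refine ⟨geometrically_iff_of_isClosedUnderIsomorphisms.mpr fun K _ t => ?_⟩
  haveI : IsReduced (pullback p t) := GeometricallyReduced.geometrically_isReduced t _ _ (.of_hasPullback p t)
  exact isReduced_of_isOpenImmersion ((pullbackRightPullbackFstIso p t j).inv ≫ pullback.snd j (pullback.fst p t))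

/-- Over a point, geometric reducedness is detected on a scheme-theoretically dense part. -/
theorem geometricallyReduced_of_dominant {V P S : Scheme.{u}} [Subsingleton S] [IsIntegral S] (j : V ⟶ P)
    [IsSchemeTheoreticallyDominant j] [QuasiCompact j] (p : P ⟶ S) [GeometricallyReduced (j ≫ p)] :
    GeometricallyReduced p := by
  refine ⟨geometrically_iff_of_isClosedUnderIsomorphisms.mpr fun K _ t => ?_⟩
  haveI : Flat t := inferInstance
  haveI : IsReduced (pullback (j ≫ p) t) :=
    GeometricallyReduced.geometrically_isReduced t _ _ (.of_hasPullback (j ≫ p) t)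
  haveI : IsReduced (pullback j (pullback.fst p t)) :=
    isReduced_of_isOpenImmersion (pullbackRightPullbackFstIso p t j).hom
  exact IsSchemeTheoreticallyDominant.isReduced (pullback.snd j (pullback.fst p t))

theorem of_restrict_le {P : MorphismProperty Scheme.{u}} [P.IsStableUnderBaseChange] {X Y : Scheme.{u}} (f : X ⟶ Y)
    {U V : Y.Opens} (h : V ≤ U) (hU : P (f ∣_ U)) : P (f ∣_ V) := by
  have hV' := isPullback_morphismRestrict f V
  have hU' := isPullback_morphismRestrict f U
  have hVU : f ⁻¹ᵁ V ≤ f ⁻¹ᵁ U := fun x hx => h hx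
  have hw : (f ∣_ V) ≫ Y.homOfLE h = X.homOfLE hVU ≫ (f ∣_ U) := by
    rw [← cancel_mono U.ι, Category.assoc, Scheme.homOfLE_ι, hV'.w, Category.assoc, hU'.w, ← Category.assoc,
      Scheme.homOfLE_ι]
  have h3 : IsPullback (f ∣_ V) (X.homOfLE hVU ≫ (f ⁻¹ᵁ U).ι) (Y.homOfLE h ≫ U.ι) f := by
    rw [Scheme.homOfLE_ι, Scheme.homOfLE_ι]
    exact hV'
  exact P.of_isPullback (IsPullback.of_bot h3 hw hU').flip hU

variable {X Y : Scheme.{u}} [IsIntegral Y] [IsNoetherian Y] (q : X ⟶ Y) [Flat q] [GeometricallyReduced q]
  [LocallyOfFiniteType q] [QuasiCompact q]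

/-- The reduced component. -/
abbrev comp (Z : Set X) (hZ : Z ∈ irreducibleComponents X) : Scheme.{u} :=
  (Scheme.IdealSheafData.vanishingIdeal (⟨Z, isClosed_of_mem_irreducibleComponents Z hZ⟩ : Closeds X)).subscheme

/-- The inclusion of the reduced component. -/
abbrev compι (Z : Set X) (hZ : Z ∈ irreducibleComponents X) : comp Z hZ ⟶ X :=
  (Scheme.IdealSheafData.vanishingIdeal (⟨Z, isClosed_of_mem_irreducibleComponents Z hZ⟩ : Closeds X)).subschemeι

theorem range_compι {Z : Set X} (hZ : Z ∈ irreducibleComponents X) : Set.range (compι Z hZ) = Z :=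
  (Scheme.IdealSheafData.range_subschemeι _).trans (Scheme.IdealSheafData.coe_support_vanishingIdeal _)

variable (hirr : ∀ (T : Set (q.fiber (genericPoint Y))) (hT : T ∈ irreducibleComponents (q.fiber (genericPoint Y))),
  GeometricallyIrreducible ((Scheme.IdealSheafData.vanishingIdeal (⟨T, isClosed_of_mem_irreducibleComponents T hT⟩ :
    Closeds _)).subschemeι ≫ q.fiberToSpecResidueField (genericPoint Y)))

include hirr in
/-- The generic fibre of a component is geometrically integral. -/
theorem geometricallyIntegral_generic (Z : Set X) (hZ : Z ∈ irreducibleComponents X) :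
    GeometricallyIntegral ((compι Z hZ ≫ q).fiberToSpecResidueField (genericPoint Y)) := by
  set η := genericPoint Y with hη
  let iW := compι Z hZ
  let e := q.fiberι η
  let P := pullback iW e
  let p : P ⟶ Spec (Y.residueField η) := pullback.snd iW e ≫ q.fiberToSpecResidueField η
  suffices h : GeometricallyIntegral p by
    let α : P ≅ (iW ≫ q).fiber η := pullbackRightPullbackFstIso q (Y.fromSpecResidueField η) iW
    have hα : α.hom ≫ (iW ≫ q).fiberToSpecResidueField η = p :=
      pullbackRightPullbackFstIso_hom_snd q (Y.fromSpecResidueField η) iW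
    rw [← MorphismProperty.cancel_left_of_respectsIso @GeometricallyIntegral α.hom, hα]
    exact h
  haveI : IsLocallyNoetherian X := LocallyOfFiniteType.isLocallyNoetherian q
  haveI : CompactSpace X := QuasiCompact.compactSpace_of_compactSpace q
  haveI : IsNoetherian X := ⟨⟩
  haveI : IsReduced (comp Z hZ) := GenEtaleLib.isReduced_vanishing _
  haveI : Flat (Y.fromSpecResidueField η) := AlgSpLib.flat_fromSpecResidueField_generic η (by
    rw [hη, genericPoint_spec Y, irreducibleComponents_eq_singleton]
    exact rfl)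
  haveI : Flat e := MorphismProperty.pullback_fst _ _ inferInstance
  haveI : IsReduced P := by
    haveI : Flat (pullback.fst iW e) := MorphismProperty.pullback_fst _ _ inferInstance
    haveI : ∀ z : P, _root_.IsReduced (P.presheaf.stalk z) := fun z => by
      haveI := AffContLib.isIso_stalkMap_of_flat_preimmersion (pullback.fst iW e) z
      exact isReduced_of_injective _ (asIso ((pullback.fst iW e).stalkMap z)).commRingCatIsoToRingEquiv.symm.injective
    exact isReduced_of_isReduced_stalk _
  obtain ⟨ζ, hζ⟩ := QuasiSober.sober hZ.1 (isClosed_of_mem_irreducibleComponents Z hZ)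
  have hmax : ∀ x : X, x ⤳ ζ → x = ζ := fun x hx => by
    have h1 : Z ⊆ closure {x} := by
      rw [← hζ.def]
      exact closure_minimal (Set.singleton_subset_iff.mpr hx.mem_closure) isClosed_closure
    have h2 : closure {x} ⊆ Z := hZ.2 isIrreducible_singleton.closure h1
    exact ((hζ.specializes (h2 (subset_closure rfl))).antisymm hx).eq.symm
  obtain ⟨ζ', hζ'⟩ : ζ ∈ Set.range e := by
    obtain ⟨x, hx, hxη⟩ := Flat.generalizingMap q (show η ⤳ q ζ from (genericPoint_spec Y).specializes trivial)
    rw [q.range_fiberι, ← hmax x hx]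
    exact hxη
  have hind := e.isEmbedding.isInducing
  have hmem : ∀ y, y ∈ e ⁻¹' Z ↔ ζ' ⤳ y := fun y => by
    rw [← hind.specializes_iff, hζ', hζ.specializes_iff_mem]
    rfl
  have hT : e ⁻¹' Z ∈ irreducibleComponents (q.fiber η) := by
    have he : e ⁻¹' Z = closure {ζ'} := Set.ext fun y => (hmem y).trans specializes_iff_mem_closure
    rw [he]
    refine ⟨isIrreducible_singleton.closure, fun T hT hle => ?_⟩
    obtain ⟨x, hx⟩ := QuasiSober.sober hT.closure isClosed_closure
    have h1 : x ⤳ ζ' := hx.specializes (subset_closure (hle (subset_closure rfl)))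
    have h2 : x = ζ' := e.isEmbedding.injective
      ((hmax _ (hζ' ▸ h1.map e.continuous)).trans hζ'.symm)
    exact subset_closure.trans (h2 ▸ hx.def.ge)
  have hrange : Set.range (pullback.snd iW e) = e ⁻¹' Z := by
    rw [Scheme.Pullback.range_snd, range_compι]
  haveI : GeometricallyIrreducible p := by
    haveI := GenEtaleLib.isReduced_vanishing (⟨e ⁻¹' Z, isClosed_of_mem_irreducibleComponents _ hT⟩ :
      Closeds (q.fiber η))
    obtain ⟨β, hβ⟩ := GenEtaleLib.exists_iso_of_closedImmersion_range (pullback.snd iW e)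
      (Scheme.IdealSheafData.vanishingIdeal (⟨e ⁻¹' Z, isClosed_of_mem_irreducibleComponents _ hT⟩ :
        Closeds (q.fiber η))).subschemeι (by
        rw [hrange, Scheme.IdealSheafData.range_subschemeι, Scheme.IdealSheafData.coe_support_vanishingIdeal]
        rfl)
    show GeometricallyIrreducible (pullback.snd iW e ≫ q.fiberToSpecResidueField η)
    rw [← hβ, Category.assoc, MorphismProperty.cancel_left_of_respectsIso @GeometricallyIrreducible]
    exact hirr _ hT
  let others : Set X := ⋃ T ∈ irreducibleComponents (X : Type u) \ {Z}, T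
  have hoc : IsClosed others :=
    ((NoetherianSpace.finite_irreducibleComponents (α := X)).diff).isClosed_biUnion
      fun T hT => isClosed_of_mem_irreducibleComponents T hT.1
  let O : X.Opens := ⟨othersᶜ, hoc.isOpen_compl⟩
  have hOZ : (O : Set X) ⊆ Z := fun x hx => by
    by_contra hxZ
    exact hx (Set.mem_biUnion ⟨irreducibleComponent_mem_irreducibleComponents x,
      fun h => hxZ (h ▸ mem_irreducibleComponent)⟩ mem_irreducibleComponent)
  have hζO : ζ ∈ O := fun h => by
    obtain ⟨T, ⟨hT, hTne⟩, hζT⟩ := Set.mem_iUnion₂.mp h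
    have h1 : Z ⊆ T := hζ.def ▸ closure_minimal (Set.singleton_subset_iff.mpr hζT)
      (isClosed_of_mem_irreducibleComponents T hT)
    exact hTne (Set.Subset.antisymm (hZ.2 hT.1 h1) h1)
  let OF : (q.fiber η).Opens := e ⁻¹ᵁ O
  let Vp : P.Opens := pullback.snd iW e ⁻¹ᵁ OF
  haveI : GeometricallyReduced (q.fiberToSpecResidueField η) := inferInstance
  haveI : IsReduced OF.toScheme := isReduced_of_isOpenImmersion OF.ι
  haveI : Surjective (pullback.snd iW e ∣_ OF) := ⟨fun y => by
    obtain ⟨z, hz⟩ : y.1 ∈ Set.range (pullback.snd iW e) := hrange.ge (hOZ y.2)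
    refine ⟨⟨z, show pullback.snd iW e z ∈ OF from hz ▸ y.2⟩, Subtype.ext ?_⟩
    rw [morphismRestrict_base_coe]
    exact hz⟩
  haveI : IsClosedImmersion (pullback.snd iW e ∣_ OF) :=
    IsZariskiLocalAtTarget.restrict (P := @IsClosedImmersion) inferInstance _
  haveI : IsIso (pullback.snd iW e ∣_ OF) := isIso_of_isClosedImmersion_of_surjective _
  haveI : GeometricallyReduced (Vp.ι ≫ p) := by
    show GeometricallyReduced (Vp.ι ≫ pullback.snd iW e ≫ q.fiberToSpecResidueField η)
    rw [← morphismRestrict_ι_assoc, MorphismProperty.cancel_left_of_respectsIso @GeometricallyReduced]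
    exact geometricallyReduced_openImmersion _ _
  haveI : IrreducibleSpace P := GeometricallyIrreducible.irreducibleSpace_of_subsingleton p
  haveI : LocallyOfFiniteType (q.fiberToSpecResidueField η) :=
    MorphismProperty.pullback_snd _ _ inferInstance
  haveI : QuasiCompact (q.fiberToSpecResidueField η) :=
    MorphismProperty.pullback_snd _ _ inferInstance
  haveI : LocallyOfFiniteType p := MorphismProperty.comp_mem _ _ _
    (inferInstanceAs (LocallyOfFiniteType (pullback.snd iW e))) inferInstance
  haveI : IsLocallyNoetherian P := LocallyOfFiniteType.isLocallyNoetherian p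
  haveI : QuasiCompact p := MorphismProperty.comp_mem _ _ _
    (inferInstanceAs (QuasiCompact (pullback.snd iW e))) inferInstance
  haveI : CompactSpace P := QuasiCompact.compactSpace_of_compactSpace p
  haveI : IsNoetherian P := ⟨⟩
  haveI : IsDominant Vp.ι := ⟨by
    rw [DenseRange, Scheme.Opens.range_ι]
    refine Vp.2.dense ?_
    obtain ⟨z, hz⟩ : ζ' ∈ Set.range (pullback.snd iW e) :=
      hrange.ge (show e ζ' ∈ Z from hζ' ▸ hζ.mem)
    exact ⟨z, show pullback.snd iW e z ∈ OF from hz ▸ (show e ζ' ∈ O from hζ' ▸ hζO)⟩⟩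
  haveI : IsSchemeTheoreticallyDominant Vp.ι := IsSchemeTheoreticallyDominant.of_isDominant _
  haveI : GeometricallyReduced p := geometricallyReduced_of_dominant Vp.ι p
  exact GeometricallyIntegral.of_geometricallyReduced_of_geometricallyIrreducible p

include hirr in
/-- A component is flat with geometrically integral fibres near the generic point. -/
theorem exists_open (Z : Set X) (hZ : Z ∈ irreducibleComponents X) :
    ∃ U : Y.Opens, (U : Set Y).Nonempty ∧ Flat ((compι Z hZ ≫ q) ∣_ U) ∧
      GeometricallyIntegral ((compι Z hZ ≫ q) ∣_ U) := by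
  haveI hgi := geometricallyIntegral_generic q hirr Z hZ
  haveI : IsLocallyNoetherian X := LocallyOfFiniteType.isLocallyNoetherian q
  obtain ⟨U₁, hU₁, h₁⟩ := Groth.Agent.S0419.result (compι Z hZ ≫ q) inferInstance
  obtain ⟨U₂, hU₂, h₂⟩ := Groth.Agent.S0434.result (compι Z hZ ≫ q) inferInstance
  obtain ⟨U₃, hU₃, h₃, -⟩ := Groth.Agent.S0414.result (compι Z hZ ≫ q)
  obtain ⟨y₁, hy₁⟩ := hU₁
  obtain ⟨y₂, hy₂⟩ := hU₂
  obtain ⟨y₃, hy₃⟩ := hU₃.nonempty
  have hm : ∀ (U : Y.Opens) (y : Y), y ∈ U → genericPoint Y ∈ U := fun U y hy =>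
    ((genericPoint_spec Y).specializes trivial).mem_open U.2 hy
  refine ⟨U₁ ⊓ U₂ ⊓ U₃, ⟨genericPoint Y, ⟨hm _ _ hy₁, hm _ _ hy₂⟩, hm _ _ hy₃⟩, ?_, ?_⟩
  · exact of_restrict_le _ inf_le_right h₃
  · haveI : GeometricallyIrreducible ((compι Z hZ ≫ q) ∣_ (U₁ ⊓ U₂ ⊓ U₃)) :=
      of_restrict_le _ (inf_le_left.trans inf_le_left) h₁
    haveI : GeometricallyReduced ((compι Z hZ ≫ q) ∣_ (U₁ ⊓ U₂ ⊓ U₃)) :=
      of_restrict_le _ (inf_le_left.trans inf_le_right) h₂
    exact GeometricallyIntegral.of_geometricallyReduced_of_geometricallyIrreducible _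

end CompSpreadLib
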