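import Groth.Agent.CompSpreadLib.Generic
import Groth.Agent.S1357
import Groth.Agent.S1358
import Groth.Agent.AlgSpLib.ReducedSmooth

/-!
# A finite flat cover making all components geometrically integral over the base
-/

set_option autoImplicit false
set_option backward.isDefEq.respectTransparency false
set_option backward.isDefEq.respectTransparency.types false
set_option linter.style.haveILetI false
set_option maxHeartbeats 1000000
universe u

open CategoryTheory CategoryTheory.Limits AlgebraicGeometry TopologicalSpace MorphismProperty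

noncomputable section

namespace CompSpreadLib

/-- A finite cover of the base over which the reduced family is flat with good generic components. -/
theorem exists_cover {X S : Scheme.{u}} [IsNoetherian S] [IsIntegral S] (f : X ⟶ S) [LocallyOfFiniteType f]
    [QuasiCompact f] :
    ∃ (Vb : S.Opens) (Y : Scheme.{u}) (_ : IsIntegral Y) (π : Y ⟶ (Vb : Scheme.{u})) (X₂ : Scheme.{u}) (q : X₂ ⟶ Y)
      (k : X₂ ⟶ pullback f (π ≫ Vb.ι)), (Vb : Set S).Nonempty ∧ IsNoetherian Y ∧ IsFinite π ∧ Surjective π ∧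
      IsClosedImmersion k ∧ Surjective k ∧ k ≫ pullback.snd _ _ = q ∧ Flat q ∧ GeometricallyReduced q ∧
      LocallyOfFiniteType q ∧ QuasiCompact q ∧
      ∀ (T : Set (q.fiber (genericPoint Y))) (hT : T ∈ irreducibleComponents (q.fiber (genericPoint Y))),
        GeometricallyIrreducible ((Scheme.IdealSheafData.vanishingIdeal
          (⟨T, isClosed_of_mem_irreducibleComponents T hT⟩ : Closeds _)).subschemeι ≫
            q.fiberToSpecResidueField (genericPoint Y)) := by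
  obtain ⟨V₁, Y', g, X', r, hY', hV₁, hAff, hfin, huh, hcl, hsurj, hred, hflat, hlfp, hqc, -, hgr⟩ :=
    Groth.Agent.S1358.result f
  haveI := hY'
  haveI := hAff
  haveI := hfin
  haveI := hcl
  haveI := hsurj
  let q' := r ≫ pullback.snd f (g ≫ V₁.ι)
  haveI : Flat q' := hflat
  haveI : LocallyOfFinitePresentation q' := hlfp
  haveI : QuasiCompact q' := hqc
  haveI : IsLocallyNoetherian V₁.toScheme := LocallyOfFiniteType.isLocallyNoetherian V₁.ι
  haveI : IsLocallyNoetherian Y' := LocallyOfFiniteType.isLocallyNoetherian g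
  haveI : IsNoetherian Y' := ⟨⟩
  obtain ⟨U, hU, hUgr⟩ := Groth.Agent.S0434.result q' hgr
  haveI := hUgr
  haveI : Nonempty U.toScheme := by obtain ⟨u, hu⟩ := hU; exact ⟨⟨u, hu⟩⟩
  haveI : IsIntegral U.toScheme := isIntegral_of_isOpenImmersion U.ι
  obtain ⟨V₂, Y₂, g₂, hY₂, hV₂, hAff₂, hsurj₂, hfin₂, het₂, hcomp⟩ := Groth.Agent.S1357.result (q' ∣_ U)
  haveI := hY₂
  haveI := hAff₂
  haveI := hsurj₂
  haveI := hfin₂
  haveI := het₂
  haveI : IsReduced V₂.toScheme := isReduced_of_isOpenImmersion V₂.ι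
  haveI : IsReduced Y₂ := AlgSpLib.isReduced_of_smooth g₂
  haveI : IsIntegral Y₂ := isIntegral_of_irreducibleSpace_of_isReduced _
  haveI : IsLocallyNoetherian U.toScheme := LocallyOfFiniteType.isLocallyNoetherian U.ι
  haveI : IsLocallyNoetherian V₂.toScheme := LocallyOfFiniteType.isLocallyNoetherian V₂.ι
  haveI : IsLocallyNoetherian Y₂ := LocallyOfFiniteType.isLocallyNoetherian g₂
  haveI : IsNoetherian Y₂ := ⟨⟩
  have hg : IsHomeomorph g.base := MorphismProperty.universally_le _ _ huh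
  let V₂' : Y'.Opens := U.ι ''ᵁ V₂
  let W : V₁.toScheme.Opens := ⟨g '' (V₂' : Set Y'), hg.isOpenMap _ V₂'.2⟩
  have hrange : Set.range (V₂.ι ≫ U.ι) = Set.range (g ⁻¹ᵁ W).ι := by
    rw [Scheme.Opens.range_ι, Scheme.Hom.comp_base, TopCat.coe_comp, Set.range_comp, Scheme.Opens.range_ι]
    show (V₂' : Set Y') = g ⁻¹' (g '' (V₂' : Set Y'))
    rw [Set.preimage_image_eq _ hg.injective]
  let e : V₂.toScheme ≅ (g ⁻¹ᵁ W).toScheme := IsOpenImmersion.isoOfRangeEq (V₂.ι ≫ U.ι) (g ⁻¹ᵁ W).ι hrange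
  let Vb : S.Opens := V₁.ι ''ᵁ W
  let π : Y₂ ⟶ Vb.toScheme := g₂ ≫ e.hom ≫ (g ∣_ W) ≫ (V₁.ι.isoImage W).hom
  let π₂ : Y₂ ⟶ Y' := g₂ ≫ V₂.ι ≫ U.ι
  have hπ : π ≫ Vb.ι = π₂ ≫ g ≫ V₁.ι := by
    simp only [π, π₂, Vb, Category.assoc, Scheme.Hom.isoImage_hom_ι, morphismRestrict_ι_assoc]
    congr 1
    exact (Category.assoc _ _ _).symm.trans (congrArg (· ≫ g ≫ V₁.ι)
      (IsOpenImmersion.isoOfRangeEq_hom_fac (V₂.ι ≫ U.ι) (g ⁻¹ᵁ W).ι hrange)) |>.trans (Category.assoc _ _ _)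
  haveI : IsFinite π := by
    haveI : IsFinite (g ∣_ W) := IsZariskiLocalAtTarget.restrict (P := @IsFinite) inferInstance _
    infer_instance
  haveI : Surjective π := by
    haveI : Surjective g := ⟨hg.surjective⟩
    haveI : Surjective (g ∣_ W) := IsZariskiLocalAtTarget.restrict (P := @Surjective) inferInstance _
    infer_instance
  let q := pullback.snd (q' ∣_ U) (g₂ ≫ V₂.ι)
  haveI : Flat (q' ∣_ U) := IsZariskiLocalAtTarget.restrict (P := @Flat) inferInstance _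
  have sq₁ : IsPullback (pullback.fst (q' ∣_ U) (g₂ ≫ V₂.ι) ≫ (q' ⁻¹ᵁ U).ι) q q' π₂ := by
    have h := (IsPullback.of_hasPullback (q' ∣_ U) (g₂ ≫ V₂.ι)).paste_horiz (isPullback_morphismRestrict q' U).flip
    rwa [Category.assoc] at h
  let mY : pullback f (π ≫ Vb.ι) ⟶ pullback f (g ≫ V₁.ι) :=
    pullback.lift (pullback.fst _ _) (pullback.snd _ _ ≫ π₂) (by simp only [pullback.condition, hπ, π₂, Category.assoc])
  have sq₂ : IsPullback mY (pullback.snd f (π ≫ Vb.ι)) (pullback.snd f (g ≫ V₁.ι)) π₂ := by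
    refine IsPullback.of_right ?_ (pullback.lift_snd _ _ _) (IsPullback.of_hasPullback f (g ≫ V₁.ι))
    rw [pullback.lift_fst, ← hπ]
    exact IsPullback.of_hasPullback f (π ≫ Vb.ι)
  let k : pullback (q' ∣_ U) (g₂ ≫ V₂.ι) ⟶ pullback f (π ≫ Vb.ι) :=
    sq₂.lift (pullback.fst (q' ∣_ U) (g₂ ≫ V₂.ι) ≫ (q' ⁻¹ᵁ U).ι ≫ r) q (by
      rw [Category.assoc, Category.assoc, ← sq₁.w, Category.assoc])
  have hk : k ≫ pullback.snd f (π ≫ Vb.ι) = q := sq₂.lift_snd _ _ _
  have sq₃ : IsPullback (pullback.fst (q' ∣_ U) (g₂ ≫ V₂.ι) ≫ (q' ⁻¹ᵁ U).ι) k r mY := by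
    refine IsPullback.of_bot ?_ ?_ sq₂
    · rw [hk]; exact sq₁
    · show _ = k ≫ mY
      rw [sq₂.lift_fst, Category.assoc]
  refine ⟨Vb, Y₂, inferInstance, π, _, q, k, ?_, inferInstance, inferInstance, inferInstance,
    MorphismProperty.of_isPullback sq₃ hcl, MorphismProperty.of_isPullback sq₃ hsurj, hk, ?_, ?_, ?_, ?_, hcomp⟩
  · obtain ⟨v, hv⟩ := hV₂
    exact ⟨_, ⟨g (U.ι v), ⟨U.ι v, ⟨v, hv, rfl⟩, rfl⟩, rfl⟩⟩
  · exact MorphismProperty.pullback_snd _ _ inferInstance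
  · exact MorphismProperty.pullback_snd _ _ inferInstance
  · exact MorphismProperty.pullback_snd _ _ inferInstance
  · exact MorphismProperty.pullback_snd _ _ inferInstance

/-- Shrinking the base of a finite cover into a given nonempty open of the cover. -/
theorem exists_shrink {Y B : Scheme.{u}} [IsIntegral Y] [IsIntegral B] (π : Y ⟶ B) [IsFinite π] [Surjective π]
    (V₃ : Y.Opens) (hV₃ : (V₃ : Set Y).Nonempty) :
    ∃ V : B.Opens, (V : Set B).Nonempty ∧ π ⁻¹ᵁ V ≤ V₃ ∧ Flat (π ∣_ V) := by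
  obtain ⟨Uf, hUf, hflat, -⟩ := Groth.Agent.S0414.result π
  obtain ⟨b, hb⟩ := hUf.nonempty
  let η := genericPoint B
  have hηY : π (genericPoint Y) = η := by
    refine ((genericPoint_spec B).specializes trivial).antisymm ?_ |>.eq.symm
    obtain ⟨z, hz⟩ := π.surjective η
    show π (genericPoint Y) ⤳ η
    rw [← hz]
    exact ((genericPoint_spec Y).specializes trivial).map π.continuous
  have hnot : η ∉ π '' (V₃ : Set Y)ᶜ := by
    rintro ⟨x, hx, hxη⟩
    haveI := (π.isDiscrete_preimage_singleton η).to_subtype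
    have h1 : (⟨genericPoint Y, hηY⟩ : π ⁻¹' {η}) ⤳ ⟨x, hxη⟩ :=
      (subtype_specializes_iff _ _).mpr ((genericPoint_spec Y).specializes trivial)
    have h2 : genericPoint Y = x := congrArg Subtype.val h1.eq
    obtain ⟨v, hv⟩ := hV₃
    exact hx (h2 ▸ ((genericPoint_spec Y).specializes trivial).mem_open V₃.2 hv)
  let O : B.Opens := ⟨(π '' (V₃ : Set Y)ᶜ)ᶜ,
    (π.isClosedMap _ V₃.2.isClosed_compl).isOpen_compl⟩
  refine ⟨O ⊓ Uf, ⟨η, hnot, ((genericPoint_spec B).specializes trivial).mem_open Uf.2 hb⟩, fun x hx => ?_,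
    of_restrict_le π inf_le_right hflat⟩
  by_contra hn
  exact hx.1 ⟨x, hn, rfl⟩

theorem main {X S : Scheme.{u}} [IsNoetherian S] [IsIntegral S] (f : X ⟶ S) [LocallyOfFiniteType f] [QuasiCompact f] :
    ∃ (V : S.Opens) (S' : Scheme.{u}) (h : S' ⟶ (V : Scheme.{u})), (V : Set S).Nonempty ∧ IsIntegral S' ∧
      IsFinite h ∧ Flat h ∧ Surjective h ∧
      ∀ (Z : Scheme.{u}) (i : Z ⟶ pullback f (h ≫ V.ι)) [IsClosedImmersion i] [IsReduced Z],
        Set.range i.base ∈ irreducibleComponents ↥(pullback f (h ≫ V.ι)) →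
          Flat (i ≫ pullback.snd f (h ≫ V.ι)) ∧ GeometricallyIntegral (i ≫ pullback.snd f (h ≫ V.ι)) := by
  obtain ⟨Vb, Y, hY, π, X₂, q, k, hVb, hN, hfin, hsurj, hkc, hks, hk, hqf, hqr, hqft, hqqc, hirr⟩ := exists_cover f
  haveI : Nonempty Vb.toScheme := by obtain ⟨v, hv⟩ := hVb; exact ⟨⟨v, hv⟩⟩
  haveI : IsIntegral Vb.toScheme := isIntegral_of_isOpenImmersion Vb.ι
  haveI : IsLocallyNoetherian X₂ := LocallyOfFiniteType.isLocallyNoetherian q
  haveI : CompactSpace X₂ := QuasiCompact.compactSpace_of_compactSpace q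
  haveI : IsNoetherian X₂ := ⟨⟩
  haveI : Finite (irreducibleComponents (X₂ : Type u)) :=
    (NoetherianSpace.finite_irreducibleComponents (α := X₂)).to_subtype
  choose Uc hUc hUcf hUcg using fun Z : irreducibleComponents (X₂ : Type u) => exists_open q hirr Z.1 Z.2
  let V₃ : Y.Opens := ⟨⋂ Z, (Uc Z : Set Y), isOpen_iInter_of_finite fun Z => (Uc Z).2⟩
  obtain ⟨Vv, hVv, hle, hVf⟩ := exists_shrink π V₃ ⟨genericPoint Y, Set.mem_iInter.mpr fun Z => by
    obtain ⟨y, hy⟩ := hUc Z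
    exact ((genericPoint_spec Y).specializes trivial).mem_open (Uc Z).2 hy⟩
  let S' := π ⁻¹ᵁ Vv
  let h : S'.toScheme ⟶ (Vb.ι ''ᵁ Vv).toScheme := (π ∣_ Vv) ≫ (Vb.ι.isoImage Vv).hom
  have hh : h ≫ (Vb.ι ''ᵁ Vv).ι = S'.ι ≫ π ≫ Vb.ι := by
    simp only [h, Category.assoc, Scheme.Hom.isoImage_hom_ι, morphismRestrict_ι_assoc, S']
  haveI : IsFinite (π ∣_ Vv) := IsZariskiLocalAtTarget.restrict (P := @IsFinite) inferInstance _
  haveI : Surjective (π ∣_ Vv) := IsZariskiLocalAtTarget.restrict (P := @Surjective) inferInstance _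
  haveI : Nonempty S'.toScheme := by
    obtain ⟨v, hv⟩ := hVv
    obtain ⟨y, rfl⟩ := π.surjective v
    exact ⟨⟨y, hv⟩⟩
  refine ⟨Vb.ι ''ᵁ Vv, S', h, ?_, isIntegral_of_isOpenImmersion S'.ι, inferInstance, inferInstance,
    inferInstance, fun Z i _ _ hi => ?_⟩
  · obtain ⟨v, hv⟩ := hVv
    exact ⟨_, ⟨v, hv, rfl⟩⟩
  let m : pullback f (h ≫ (Vb.ι ''ᵁ Vv).ι) ⟶ pullback f (π ≫ Vb.ι) :=
    pullback.lift (pullback.fst _ _) (pullback.snd _ _ ≫ S'.ι) (by rw [pullback.condition, hh, Category.assoc])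
  have sqm : IsPullback m (pullback.snd f (h ≫ (Vb.ι ''ᵁ Vv).ι)) (pullback.snd f (π ≫ Vb.ι)) S'.ι := by
    refine IsPullback.of_right ?_ (pullback.lift_snd _ _ _) (IsPullback.of_hasPullback f (π ≫ Vb.ι))
    rw [pullback.lift_fst, ← hh]
    exact IsPullback.of_hasPullback f _
  haveI : IsOpenImmersion m := MorphismProperty.of_isPullback sqm.flip inferInstance
  obtain ⟨T, hT, hTle⟩ : ∃ T ∈ irreducibleComponents ↥(pullback f (π ≫ Vb.ι)), m '' Set.range i ⊆ T :=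
    exists_mem_irreducibleComponents_subset_of_isIrreducible _ (hi.1.image _ m.continuous.continuousOn)
  have hmT : m ⁻¹' T = Set.range i :=
    Set.Subset.antisymm (hi.2 (hT.1.preimage m.isOpenEmbedding (by
        obtain ⟨z, hz⟩ := hi.1.1
        exact ⟨m z, hTle ⟨z, hz, rfl⟩, z, rfl⟩))
      (fun z hz => hTle ⟨z, hz, rfl⟩)) (fun z hz => hTle ⟨z, hz, rfl⟩)
  let ek : X₂ ≃ₜ (pullback f (π ≫ Vb.ι) : Scheme.{u}) :=
    k.isClosedEmbedding.isEmbedding.toHomeomorphOfSurjective k.surjective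
  have hZ₂ : k ⁻¹' T ∈ irreducibleComponents (X₂ : Type u) := by
    refine ⟨hT.1.preimage ek.isOpenEmbedding (by
      obtain ⟨t, ht⟩ := hT.1.1
      exact ⟨t, ht, ek.surjective t⟩), fun T' hT' hle' x hx => ?_⟩
    exact hT.2 (hT'.image k k.continuous.continuousOn) (fun t ht => by
      obtain ⟨y, rfl⟩ := k.surjective t
      exact ⟨y, hle' ht, rfl⟩) ⟨x, hx, rfl⟩
  let qW := compι _ hZ₂ ≫ q
  have hS' : S' ≤ Uc ⟨_, hZ₂⟩ := fun y hy => Set.mem_iInter.mp (hle hy) _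
  have hflat : Flat (qW ∣_ S') := of_restrict_le _ hS' (hUcf ⟨_, hZ₂⟩)
  have hgi : GeometricallyIntegral (qW ∣_ S') := of_restrict_le _ hS' (hUcg ⟨_, hZ₂⟩)
  let w : (qW ⁻¹ᵁ S').toScheme ⟶ pullback f (h ≫ (Vb.ι ''ᵁ Vv).ι) :=
    sqm.lift ((qW ⁻¹ᵁ S').ι ≫ compι _ hZ₂ ≫ k) (qW ∣_ S') (by
      rw [morphismRestrict_ι, Category.assoc, Category.assoc, hk])
  have hwm : w ≫ m = (qW ⁻¹ᵁ S').ι ≫ compι _ hZ₂ ≫ k := sqm.lift_fst _ _ _
  have hwr : Set.range w = Set.range i := by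
    refine Set.Subset.antisymm ?_ fun p hp => ?_
    · rintro _ ⟨y, rfl⟩
      rw [← hmT]
      show m (w y) ∈ T
      rw [← Scheme.Hom.comp_apply, hwm, Scheme.Hom.comp_apply, Scheme.Hom.comp_apply]
      exact (range_compι hZ₂).le ⟨_, rfl⟩
    · rw [← hmT] at hp
      obtain ⟨x, hx⟩ := k.surjective (m p)
      obtain ⟨y, hy⟩ : x ∈ Set.range (compι _ hZ₂) :=
        (range_compι hZ₂).ge (show k x ∈ T from hx ▸ hp)
      have hyS : qW y ∈ S' := by
        show (compι _ hZ₂ ≫ q) y ∈ S'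
        rw [Scheme.Hom.comp_apply, hy, ← hk, Scheme.Hom.comp_apply, hx, ← Scheme.Hom.comp_apply, sqm.w,
          Scheme.Hom.comp_apply]
        exact (pullback.snd f (h ≫ (Vb.ι ''ᵁ Vv).ι) p).2
      refine ⟨⟨y, hyS⟩, m.isOpenEmbedding.injective ?_⟩
      rw [← Scheme.Hom.comp_apply, hwm, Scheme.Hom.comp_apply, Scheme.Hom.comp_apply]
      exact (congrArg k hy).trans hx
  haveI : IsPreimmersion (w ≫ m) := hwm ▸ inferInstance
  haveI : IsPreimmersion w := IsPreimmersion.of_comp w m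
  haveI : IsClosedImmersion w := IsClosedImmersion.of_isPreimmersion w (hwr ▸ i.isClosedEmbedding.isClosed_range)
  haveI : IsReduced (comp _ hZ₂) := GenEtaleLib.isReduced_vanishing _
  haveI : IsReduced (qW ⁻¹ᵁ S').toScheme := isReduced_of_isOpenImmersion (qW ⁻¹ᵁ S').ι
  obtain ⟨α, hα⟩ := GenEtaleLib.exists_iso_of_closedImmersion_range i w hwr.symm
  rw [← hα, Category.assoc, show w ≫ pullback.snd f (h ≫ (Vb.ι ''ᵁ Vv).ι) = qW ∣_ S' from sqm.lift_snd _ _ _,
    MorphismProperty.cancel_left_of_respectsIso @Flat,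
    MorphismProperty.cancel_left_of_respectsIso @GeometricallyIntegral]
  exact ⟨hflat, hgi⟩

end CompSpreadLib
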